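import Groth.Agent.L04.LC.PuncturedLinear
import Groth.Agent.L10.ShriekLoc.StalkSemi
import Groth.Agent.L18.LocFreeTilde
import Groth.Agent.L22.PDual.RegVanish
import Groth.Agent.L03.AuslanderBuchsbaum
import Groth.Agent.L07.BlowLib.ProperInter
import Groth.Agent.L04.RegularPd
import Groth.Agent.S0603
import Groth.Agent.S2930

/-!
Finiteness of the cohomology of a vector bundle on the complement of a closed set of large height in a regular affine
scheme.
-/

set_option autoImplicit false
set_option linter.style.haveILetI false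
set_option backward.isDefEq.respectTransparency false
set_option backward.isDefEq.respectTransparency.types false

universe u

open CategoryTheory CategoryTheory.Limits TopologicalSpace Opposite AlgebraicGeometry

noncomputable section

namespace Groth.L17.LocFreeFin

variable {A : Type u} [CommRing A] [IsRegularRing A]

/-- The stalks of the localization of a module which is a vector bundle on an open. -/
theorem le_depth_localized (W : (Spec (CommRingCat.of A)).Opens) (N : ModuleCat.{u} A)
    (hN : FlatMod.IsFinLocFree (Groth.L04.PunctLin.tM W N)) (p : PrimeSpectrum A) (hp : p ∈ W) (m : ℕ)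
    (hm : (m : ℕ∞) ≤ p.asIdeal.height) :
    (m : ℕ∞) ≤ LocCoh.depth (Localization.AtPrime p.asIdeal) (LocalizedModule p.asIdeal.primeCompl N) := by
  haveI : IsRegularLocalRing (Localization.AtPrime p.asIdeal) :=
    IsRegularRing.isRegularLocalRing_localization p.asIdeal
  obtain ⟨E₁⟩ := Groth.L10.ShriekLoc.nonempty_semi_tilde (CommRingCat.of A) p N
  let y : (W : Scheme.{u}) := ⟨p, hp⟩
  obtain ⟨E₂⟩ := Groth.L10.ShriekLoc.nonempty_semi_restrict W.ι (tilde (R := CommRingCat.of A) N) y
  let R' := (W : Scheme.{u}).presheaf.stalk y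
  let M' := (Groth.L04.PunctLin.tM W N).presheaf.stalk y
  letI := (Groth.L00.KFlat.toStalk (CommRingCat.of A) p).toAlgebra
  haveI := Groth.L29.DC.TorTest.isLocalization_toStalk (R := CommRingCat.of A) p
  let e : Localization.AtPrime p.asIdeal ≃+* R' :=
    (IsLocalization.algEquiv p.asIdeal.primeCompl (Localization.AtPrime p.asIdeal)
      ((Spec (CommRingCat.of A)).presheaf.stalk p)).toRingEquiv.trans
      (asIso (W.ι.stalkMap y)).commRingCatIsoToRingEquiv
  haveI : IsRegularLocalRing R' := IsRegularLocalRing.of_ringEquiv e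
  haveI : Module.Finite R' M' :=
    Groth.L18.LFP.finite_stalk _ (Groth.L18.LFP.isFP_of_isFinLocFree _ hN) y
  haveI : Module.Free R' M' := Groth.L18.LFP.free_stalk _ hN y
  obtain ⟨d, hd⟩ := ENat.ne_top_iff_exists.1 (Ideal.height_ne_top p.isPrime.ne_top)
  have hmd : m ≤ d := by rw [← hd] at hm; exact_mod_cast hm
  have hdim : ringKrullDim R' = d := by
    rw [← ringKrullDim_eq_of_ringEquiv e,
      IsLocalization.AtPrime.ringKrullDim_eq_height p.asIdeal (Localization.AtPrime p.asIdeal), ← hd]
    rfl
  have h2 : LocCoh.depth (Localization.AtPrime p.asIdeal) (LocalizedModule p.asIdeal.primeCompl N) =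
      LocCoh.depth R' M' := E₁.depth_eq.trans E₂.depth_eq.symm
  rw [h2]
  rcases subsingleton_or_nontrivial M' with hs | hs
  · have : LocCoh.depth R' M' = ⊤ := by
      unfold LocCoh.depth LocCoh.idealDepth
      rw [if_pos (Subsingleton.elim _ _)]
    rw [this]; exact le_top
  · rw [Groth.L03.AB.depth_free, Groth.L22.PDual.depth_eq_dim hdim]
    exact_mod_cast hmd

variable [IsDomain A] (I : Ideal A) (i : ℕ)

/-- Finiteness of local cohomology. -/
theorem finite_H (hI : ∀ q : PrimeSpectrum A, I ≤ q.asIdeal → ((i + 2 : ℕ) : ℕ∞) ≤ q.asIdeal.height)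
    (N : ModuleCat.{u} A) [Module.Finite A N]
    (hN : FlatMod.IsFinLocFree (Groth.L04.PunctLin.tM (LocCoh.puncturedOpen A I) N)) (j : ℕ) (hj : j ≤ i + 1) :
    Module.Finite A (LocCoh.H I j N) := by
  haveI := Groth.L04.isCohenMacaulayRing_of_regularRing (R := A)
  have hc : CAlg.IsCatenary A := Groth.L03.Catenary.isCatenary_of_essFiniteType (Groth.Agent.S0603.result A) A
  refine (Groth.Agent.S2930.result A A (RingHom.id A) Function.surjective_id I N (i + 1)).2 (fun p q hp hq hpq => ?_) j hj
  refine le_depth_localized _ N hN p hp (i + 1) ?_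
  have h := Groth.L07.BlowLib.height_eq_add_one_of_covBy hc ⟨⊥, Ideal.isPrime_bot⟩ (fun _ => bot_le) hpq
  rw [← PrimeSpectrum.height_eq_orderHeight, ← PrimeSpectrum.height_eq_orderHeight] at h
  have hle := hI q hq
  rw [h, Nat.cast_add, Nat.cast_ofNat, show (2 : ℕ∞) = 1 + 1 from rfl, ← add_assoc] at hle
  push_cast
  exact WithTop.le_of_add_le_add_right (by simp) hle

/-- Finiteness of the cohomology on the complement. -/
theorem finite_HH (hI : ∀ q : PrimeSpectrum A, I ≤ q.asIdeal → ((i + 2 : ℕ) : ℕ∞) ≤ q.asIdeal.height)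
    (N : ModuleCat.{u} A) [Module.Finite A N]
    (hN : FlatMod.IsFinLocFree (Groth.L04.PunctLin.tM (LocCoh.puncturedOpen A I) N)) (j : ℕ) (hj : j ≤ i) :
    Module.Finite A (Coh.HH (LocCoh.puncturedOpen A I : Scheme.{u})
      (Groth.L04.PunctLin.tM (LocCoh.puncturedOpen A I) N) j) := by
  obtain _ | p := j
  · haveI := finite_H I i hI N hN 1 (by omega)
    obtain ⟨-, ⟨e⟩⟩ := Groth.L04.Koszul.Cech.exists_toOpen_punctured I N
    let f := (tilde.toOpen (R := CommRingCat.of A) N (LocCoh.puncturedOpen A I)).hom
    haveI : Module.Finite A (Groth.L04.PunctLin.sect (LocCoh.puncturedOpen A I) N ⧸ LinearMap.range f) :=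
      Module.Finite.equiv (e.trans (LinearEquiv.refl A _)).symm
    haveI : Module.Finite A (LinearMap.range f) := Module.Finite.range f
    haveI := Module.Finite.of_submodule_quotient (R := A) (LinearMap.range f)
    exact Module.Finite.equiv (Groth.L04.PunctLin.gamma (LocCoh.puncturedOpen A I) N).symm
  · obtain ⟨e⟩ := Groth.L04.PunctLin.nonempty_equiv I p N
    haveI := finite_H I i hI N hN (p + 2) (by omega)
    exact Module.Finite.equiv e.symm

end Groth.L17.LocFreeFin
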