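import Groth.Agent.L17.LocFreeFin.Local
import Groth.Agent.L03.QcOpenExtend
import Groth.Agent.L17.ProperCoh
import Groth.Agent.L17.PushMV
import Groth.Agent.L17.GrothSS
import Groth.Agent.L17.SSClass
import Groth.Agent.L17.CohClass
import Groth.Agent.L16.CohKernel
import Groth.Agent.L16.CohSupport
import Groth.Agent.L16.NegPow.Gen
import Groth.Agent.L19.ZClos.HullClosure
import Groth.Agent.L22.IntMult.Stalk
import Groth.Agent.L04.ExtZ.HighDim
import Groth.Agent.L04.ExtZ.Regular

/-!
Finiteness of low cohomology of vector bundles on opens of proper regular varieties.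
-/

set_option autoImplicit false
set_option linter.style.haveILetI false
set_option backward.isDefEq.respectTransparency false
set_option backward.isDefEq.respectTransparency.types false

universe u

open CategoryTheory CategoryTheory.Limits TopologicalSpace Opposite AlgebraicGeometry

noncomputable section

namespace Groth.L17.LocFreeFin

attribute [local instance] PushQCoh.additive_push

variable {X : Scheme.{u}}

/-- Higher direct images of a vector bundle from an open are coherent in low degrees. -/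
theorem isCoh_Rpush_open [IsIntegral X] [IsNoetherian X] (hreg : ∀ x : X, IsRegularLocalRing (X.presheaf.stalk x))
    (U : X.Opens) (i : ℕ) (hU : ∀ x : X, x ∉ U → (((i + 2 : ℕ) : ℕ∞) : WithBot ℕ∞) ≤ ringKrullDim (X.presheaf.stalk x))
    [HasInjectiveResolutions (U : Scheme.{u}).Modules]
    (F : (U : Scheme.{u}).Modules) (hF : FlatMod.IsFinLocFree F) (q : ℕ) (hq : q ≤ i) :
    Coh.IsCoh ((Coh.Rpush U.ι q).obj F) := by
  refine Groth.L16.CohKernel.isCoh_of_tilde_charts _ fun y => ?_
  obtain ⟨_, ⟨V, hV, rfl⟩, hyV, -⟩ :=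
    X.isBasis_affineOpens.exists_subset_of_mem_open (Set.mem_univ y) isOpen_univ
  haveI : Nonempty V := ⟨⟨y, hyV⟩⟩
  haveI := IsLocallyNoetherian.component_noetherian ⟨V, hV⟩
  haveI : IsRegularRing Γ(X, V) := Groth.L04.ExtZ.isRegularRing_sections hreg hV
  let A : Type u := Γ(X, V)
  let W : (Spec Γ(X, V)).Opens := hV.fromSpec ⁻¹ᵁ U
  let I : Ideal A := PrimeSpectrum.vanishingIdeal (SetLike.coe W : Set (PrimeSpectrum A))ᶜ
  have hWI : W = LocCoh.puncturedOpen A I := by
    apply Opens.ext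
    show (SetLike.coe W : Set (PrimeSpectrum A)) = (PrimeSpectrum.zeroLocus (I : Set A))ᶜ
    rw [show (I : Ideal A) = _ from rfl, PrimeSpectrum.zeroLocus_vanishingIdeal_eq_closure,
      W.isOpen.isClosed_compl.closure_eq, compl_compl]
  let Uo := LocCoh.puncturedOpen A I
  have hI : ∀ p : PrimeSpectrum A, I ≤ p.asIdeal → ((i + 2 : ℕ) : ℕ∞) ≤ p.asIdeal.height := fun p hp => by
    have hpU : hV.fromSpec p ∉ U := fun h => by
      have h' : p ∈ LocCoh.puncturedOpen A I := hWI ▸ (show p ∈ W from h)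
      exact h' hp
    have h := hU _ hpU
    rw [← Groth.L04.ExtZ.height_eq_dim_stalk hV p] at h
    exact WithBot.coe_le_coe.1 h
  have hsub : Set.range (Uo.ι ≫ hV.fromSpec) ⊆ Set.range U.ι := by
    rintro _ ⟨x, rfl⟩
    rw [Scheme.Opens.range_ι]
    have : (x : (Uo : Scheme.{u})).1 ∈ W := hWI.symm ▸ x.2
    exact this
  let ι' : (Uo : Scheme.{u}) ⟶ U := IsOpenImmersion.lift U.ι (Uo.ι ≫ hV.fromSpec) hsub
  have hι : ι' ≫ U.ι = Uo.ι ≫ hV.fromSpec := IsOpenImmersion.lift_fac _ _ _
  haveI : IsOpenImmersion (ι' ≫ U.ι) := hι.symm ▸ inferInstance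
  haveI : IsOpenImmersion ι' := IsOpenImmersion.of_comp ι' U.ι
  have hr : U.ι ⁻¹ᵁ hV.fromSpec.opensRange ≤ ι'.opensRange := by
    intro z hz
    obtain ⟨p, hp⟩ := hz
    have hp' : p ∈ W := by
      show hV.fromSpec p ∈ U
      rw [hp]; exact z.2
    refine ⟨⟨p, hWI.le hp'⟩, U.ι.isOpenEmbedding.injective ?_⟩
    rw [← hp, ← Scheme.Hom.comp_apply, hι]
    rfl
  let g : (Uo : Scheme.{u}) ⟶ Spec Γ(X, V) := (Uo : Scheme.{u}) ↘ Spec (CommRingCat.of A)
  have hg : g = Uo.ι := Category.comp_id Uo.ι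
  have w : g ≫ hV.fromSpec = ι' ≫ U.ι := by rw [hι, hg]
  have hqc : IsCompact (Uo : Set (Spec Γ(X, V))) := NoetherianSpace.isCompact _
  haveI : QuasiCompact g := hg ▸ Groth.L17.Approx.quasiCompact_ι Uo hqc
  haveI : QuasiSeparated g := hg ▸ inferInstance
  have hF' : FlatMod.IsFinLocFree (F.restrict ι') :=
    Groth.L29.LocFree.of_iso ((Scheme.Modules.restrictFunctorIsoPullback ι').app F).symm
      (Groth.L29.LocFree.pullback ι' hF)
  haveI : IsLocallyNoetherian (Uo : Scheme.{u}) := inferInstance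
  obtain ⟨N, hNfin, ⟨eN⟩⟩ := Groth.L03.QcOpenExtend.exists_finite_tilde_restrict (A := Γ(X, V)) Uo hqc _
    (Groth.L16.NegPow.isCoh_of_isFinLocFree hF')
  have hN : FlatMod.IsFinLocFree (Groth.L04.PunctLin.tM (A := A) Uo N) := Groth.L29.LocFree.of_iso eN hF'
  haveI : Coh.IsQCoh (Groth.L04.PunctLin.tM (A := A) Uo N) := Groth.L03.QcOpenExtend.isQCoh_restrict_tilde Uo N
  haveI := PushQCoh.hasInjectiveResolutions (Uo : Scheme.{u})
  haveI : Module.Finite A (Coh.HH (Uo : Scheme.{u}) (Groth.L04.PunctLin.tM (A := A) Uo N) q) :=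
    finite_HH I i hI N hN q hq
  obtain ⟨eΓ⟩ := ProperCoh.nonempty_Γ_Rpush_equiv (R := Γ(X, V)) g (Groth.L04.PunctLin.tM (A := A) Uo N) q
  obtain ⟨e⟩ := PushQCoh.nonempty_Rpush_restrict_iso U.ι hV.fromSpec ι' g hr w F q
  haveI := PushQCoh.isQCoh_Rpush g (Groth.L04.PunctLin.tM (A := A) Uo N) q
  exact ⟨_, hV.fromSpec, inferInstance,
    (moduleSpecΓFunctor (R := Γ(X, V))).obj ((Coh.Rpush g q).obj (Groth.L04.PunctLin.tM (A := A) Uo N)),
    hV.opensRange_fromSpec.ge hyV, Module.Finite.equiv eΓ,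
    ⟨e ≪≫ (Coh.Rpush g q).mapIso eN ≪≫ (Groth.L18.TildeF.counitIso _).symm⟩⟩

theorem isThick_isCoh [IsLocallyNoetherian X] : Groth.L17.SSClass.IsThick fun M : X.Modules => Coh.IsCoh M where
  zero _ h := Groth.L29.DC.RHomC.isCoh_of_isZero h
  iso e h := Groth.L16.CohSupport.isCoh_of_iso e h
  ker f h h' := (Groth.L16.CohKernel.isCoh_kernel_cokernel h h' f).1
  coker f h h' := (Groth.L16.CohKernel.isCoh_kernel_cokernel h h' f).2
  ext S hS := Groth.L17.CohClass.isCoh_of_shortExact S hS

/-- Direct images of injective modules along opens are flasque. -/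
theorem isFlasque_push {U : Scheme.{u}} (j : U ⟶ X) (Q : U.Modules) [Injective Q] :
    TopCat.Sheaf.IsFlasque (Coh.toAb ((Scheme.Modules.pushforward j).obj Q)) := by
  refine ⟨fun {V W} i => ?_⟩
  exact (PushMV.isFlasque_of_injective Q).epi ((Opens.map j.base).map i.unop).op

/-- Finiteness of low cohomology of a vector bundle on an open of a proper regular variety. -/
theorem finite_cohomology (k : Type u) [Field k] (X : Scheme.{u})
    [X.Over (Spec (CommRingCat.of k))] [IsProper (X ↘ (Spec (CommRingCat.of k)))] [IsIntegral X]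
    (hreg : ∀ x : X, IsRegularLocalRing (X.presheaf.stalk x))
    (n : ℕ) (hdim : topologicalKrullDim X = n) (U : X.Opens) (s : ℕ)
    (hY : topologicalKrullDim ((U : Set X)ᶜ : Set X) ≤ (s : WithBot ℕ∞))
    (F : (U : Scheme.{u}).Modules) (hF : FlatMod.IsFinLocFree F) (i : ℕ) (hi : i + s + 1 < n) :
    Module.Finite k (Coh.HH (U : Scheme.{u}) F i) := by
  let f := X ↘ Spec (CommRingCat.of k)
  haveI : IsProper f := ‹_›
  haveI : IsLocallyNoetherian X := LocallyOfFiniteType.isLocallyNoetherian f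
  haveI : CompactSpace X := QuasiCompact.compactSpace_of_compactSpace f
  haveI : IsNoetherian X := ⟨⟩
  have hU : ∀ x : X, x ∉ U → (((i + 2 : ℕ) : ℕ∞) : WithBot ℕ∞) ≤ ringKrullDim (X.presheaf.stalk x) := fun x hx => by
    obtain ⟨d, b, z, hd, hb, hz, hbz⟩ := Groth.L22.IntMult.dim_stalk_add_closure k f x
    have hzs : (z : WithBot ℕ∞) ≤ s := by
      rw [← hz]
      refine le_trans ?_ hY
      exact (Topology.IsEmbedding.inclusion
        (U.isOpen.isClosed_compl.closure_subset_iff.2 (Set.singleton_subset_iff.2 hx))).toIsInducing.topologicalKrullDim_le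
    have h1 : d = n := by exact_mod_cast hd.symm.trans hdim
    have h2 : z ≤ s := by exact_mod_cast hzs
    rw [hb]
    exact_mod_cast (by omega : i + 2 ≤ b)
  haveI := PushQCoh.hasInjectiveResolutions (U : Scheme.{u})
  haveI := PushQCoh.hasInjectiveResolutions X
  haveI : QuasiCompact U.ι := Groth.L17.Approx.quasiCompact_ι U (NoetherianSpace.isCompact _)
  let S := Scheme.Modules.pushforward f
  haveI : (Scheme.Modules.pushforward f).IsRightAdjoint :=
    (Scheme.Modules.pullbackPushforwardAdjunction f).isRightAdjoint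
  haveI : EnoughInjectives X.Modules :=
    haveI := Groth.L00.Tensor.grothendieckAbelian_modules X
    inferInstance
  haveI : EnoughInjectives (U : Scheme.{u}).Modules :=
    haveI := Groth.L00.Tensor.grothendieckAbelian_modules (U : Scheme.{u})
    inferInstance
  letI := HasDerivedCategory.standard (U : Scheme.{u}).Modules
  letI := HasDerivedCategory.standard X.Modules
  let g : (U : Scheme.{u}) ⟶ Spec (CommRingCat.of k) := (U : Scheme.{u}) ↘ Spec (CommRingCat.of k)
  obtain ⟨E, a, hfin, -, hE⟩ := Groth.L17.GrothSS.exists_spectralSequence (Scheme.Modules.pushforward U.ι) S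
    (fun Q hQ q hq => by
      obtain ⟨m, rfl⟩ : ∃ m, q = m + 1 := ⟨q - 1, by omega⟩
      exact Groth.L17.PushQCoh.isZero_Rpush_of_flasque f _ (isFlasque_push U.ι Q) m) F
  have h := Groth.L17.SSClass.abutment_mem (isThick_isCoh (X := Spec (CommRingCat.of k))) a (i : ℤ) (i : ℤ)
    le_rfl (hfin _)
    (fun p q hpq => by
      obtain ⟨e⟩ := hE p q
      rw [if_neg hpq] at e
      exact (isZero_zero _).of_iso e)
    (fun p q hqi => by
      obtain ⟨e⟩ := hE p q
      by_cases hpq : 0 ≤ p ∧ 0 ≤ q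
      · rw [if_pos hpq] at e
        exact Groth.L16.CohSupport.isCoh_of_iso e.symm (Groth.L17.ProperCoh.isCoh_Rpush f _
          (isCoh_Rpush_open hreg U i hU F hF q.toNat (by omega)) p.toNat)
      · rw [if_neg hpq] at e
        exact Groth.L29.DC.RHomC.isCoh_of_isZero ((isZero_zero _).of_iso e))
  rw [if_pos (Int.natCast_nonneg i), Int.toNat_natCast] at h
  let eT : ((Scheme.Modules.pushforward U.ι ⋙ S).rightDerived i).obj F ≅ (Coh.Rpush g i).obj F :=
    (Groth.L10.SiteCoh.rightDerivedCongr (Scheme.Modules.pushforwardComp U.ι f) i).app F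
  have h' : Coh.IsCoh ((Coh.Rpush g i).obj F) := Groth.L16.CohSupport.isCoh_of_iso eT h
  haveI : QuasiCompact g := inferInstanceAs (QuasiCompact (U.ι ≫ f))
  haveI : QuasiSeparated g := inferInstanceAs (QuasiSeparated (U.ι ≫ f))
  haveI : Coh.IsQCoh F := (Groth.L16.NegPow.isCoh_of_isFinLocFree hF).1
  obtain ⟨eH⟩ := ProperCoh.nonempty_Γ_Rpush_equiv (R := CommRingCat.of k) g F i
  haveI := Groth.L19.ZClos.finite_moduleSpecΓ ((Coh.Rpush g i).obj F) h'
  exact Module.Finite.equiv eH.symm

end Groth.L17.LocFreeFin
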